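import Mathlib
import Groth.Agent.HKLib.Main
import Groth.Agent.SerreReg.CM
import Groth.Agent.SerreReg.MiracleFinite
import Groth.Agent.RegPow.Basic

/-! Kunz: regularity and flatness of Frobenius. -/

set_option autoImplicit false
set_option linter.all false
universe u

noncomputable section

namespace Groth.Agent.Kunz

open IsLocalRing Finset

/-- Lech independence. -/
def Indep {S : Type u} [CommRing S] {n : ℕ} (y : Fin n → S) : Prop :=
  ∀ a : Fin n → S, ∑ j, a j * y j = 0 → ∀ j, a j ∈ Ideal.span (Set.range y)

section Lech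

variable {S : Type u} [CommRing S] {n : ℕ} {y : Fin n → S} {i : Fin n} {f g : S}

theorem sum_update_left (a : Fin n → S) (v : S) (z : Fin n → S) :
    ∑ j, Function.update a i v j * z j = v * z i + ∑ j ∈ univ.erase i, a j * z j := by
  rw [← add_sum_erase _ _ (mem_univ i), Function.update_self]
  congr 1
  refine sum_congr rfl fun j hj => ?_
  rw [Function.update_of_ne (ne_of_mem_erase hj)]

theorem sum_update_right (a : Fin n → S) (v : S) (z : Fin n → S) :
    ∑ j, a j * Function.update z i v j = a i * v + ∑ j ∈ univ.erase i, a j * z j := by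
  rw [← add_sum_erase _ _ (mem_univ i), Function.update_self]
  congr 1
  refine sum_congr rfl fun j hj => ?_
  rw [Function.update_of_ne (ne_of_mem_erase hj)]

theorem indep_coeff (hy : Indep y) (hi : y i = f * g) (a : Fin n → S)
    (ha : a i * f + ∑ j ∈ univ.erase i, a j * y j = 0) : a i ∈ Ideal.span (Set.range y) := by
  have h := hy (Function.update (fun j => g * a j) i (a i)) (by
    rw [sum_update_left, hi]
    simp only [mul_assoc, ← mul_sum]
    linear_combination g * ha) i
  rwa [Function.update_self] at h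

theorem span_le_update (hi : y i = f * g) :
    Ideal.span (Set.range y) ≤ Ideal.span (Set.range (Function.update y i f)) := by
  refine Ideal.span_le.2 ?_
  rintro _ ⟨j, rfl⟩
  by_cases hj : j = i
  · subst hj
    rw [hi]
    exact Ideal.mul_mem_right _ _ (Ideal.subset_span ⟨j, Function.update_self ..⟩)
  · exact Ideal.subset_span ⟨j, Function.update_of_ne hj ..⟩

theorem indep_update (hy : Indep y) (hi : y i = f * g) : Indep (Function.update y i f) := by
  intro a ha j
  rw [sum_update_right] at ha
  have hai := indep_coeff hy hi a ha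
  by_cases hj : j = i
  · subst hj; exact span_le_update hi hai
  obtain ⟨c, hc⟩ := Ideal.mem_span_range_iff_exists_fun.1 hai
  rw [← add_sum_erase _ _ (mem_univ i)] at hc
  have h := hy (Function.update (fun k => c k * f + a k) i (c i * f)) (by
    rw [sum_update_left, hi]
    simp only [add_mul, sum_add_distrib]
    have e : ∑ k ∈ univ.erase i, c k * f * y k = f * ∑ k ∈ univ.erase i, c k * y k := by
      rw [mul_sum]; exact sum_congr rfl fun k _ => by ring
    rw [e]
    rw [hi] at hc
    linear_combination ha + f * hc) j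
  rw [Function.update_of_ne hj] at h
  have hf : f ∈ Ideal.span (Set.range (Function.update y i f)) :=
    Ideal.subset_span ⟨i, Function.update_self ..⟩
  have := sub_mem (span_le_update hi h) (Ideal.mul_mem_left _ (c j) hf)
  rwa [add_sub_cancel_left] at this

theorem span_update_eq (v : S) :
    Ideal.span (Set.range (Function.update y i v)) = Ideal.span (y '' {i}ᶜ) ⊔ Ideal.span {v} := by
  refine le_antisymm (Ideal.span_le.2 ?_) (sup_le (Ideal.span_le.2 ?_) (Ideal.span_le.2 ?_))
  · rintro _ ⟨j, rfl⟩
    by_cases hj : j = i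
    · subst hj; rw [Function.update_self]
      exact Ideal.mem_sup_right (Ideal.mem_span_singleton_self v)
    · rw [Function.update_of_ne hj]
      exact Ideal.mem_sup_left (Ideal.subset_span ⟨j, hj, rfl⟩)
  · rintro _ ⟨j, hj, rfl⟩
    exact Ideal.subset_span ⟨j, Function.update_of_ne hj ..⟩
  · rintro _ rfl
    exact Ideal.subset_span ⟨i, Function.update_self ..⟩

theorem length_split (hy : Indep y) (hi : y i = f * g) :
    Module.length S (S ⧸ Ideal.span (Set.range (Function.update y i g))) +
        Module.length S (S ⧸ Ideal.span (Set.range (Function.update y i f))) ≤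
      Module.length S (S ⧸ Ideal.span (Set.range y)) := by
  set K := Ideal.span (y '' {i}ᶜ)
  have hY : Ideal.span (Set.range y) = K ⊔ Ideal.span {f * g} := by
    rw [← hi, ← span_update_eq, Function.update_eq_self]
  rw [span_update_eq, span_update_eq, hY]
  set A := K ⊔ Ideal.span {g}
  set B := K ⊔ Ideal.span {f}
  set C := K ⊔ Ideal.span {f * g}
  have hCB : C ≤ B := sup_le le_sup_left
    ((Ideal.span_singleton_le_iff_mem _).2 (Ideal.mul_mem_right _ _ (Ideal.mem_sup_right (Ideal.mem_span_singleton_self f))))
  have hA : A ≤ Submodule.comap (LinearMap.mul S S f) C := by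
    refine sup_le (fun x hx => ?_) ((Ideal.span_singleton_le_iff_mem _).2 ?_)
    · exact Ideal.mem_sup_left (Ideal.mul_mem_left _ _ hx)
    · exact Ideal.mem_sup_right (Ideal.mem_span_singleton_self _)
  let φ : (S ⧸ A) →ₗ[S] (S ⧸ C) := Submodule.mapQ A C (LinearMap.mul S S f) hA
  let π : (S ⧸ C) →ₗ[S] (S ⧸ B) := Submodule.factor hCB
  have hφ : Function.Injective φ := by
    rw [injective_iff_map_eq_zero]
    intro x hx
    obtain ⟨x, rfl⟩ := Submodule.mkQ_surjective _ x
    have hx' : f * x ∈ C := (Submodule.Quotient.mk_eq_zero C).1 hx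
    obtain ⟨k, hk, w, hw, hkw⟩ := Submodule.mem_sup.1 hx'
    obtain ⟨b, rfl⟩ := Ideal.mem_span_singleton'.1 hw
    have hk' : k ∈ Ideal.span (Set.range fun j : {j // j ≠ i} => y j) := by
      convert hk using 2
      ext z; simp
    obtain ⟨c, hc⟩ := Ideal.mem_span_range_iff_exists_fun.1 hk'
    let a : Fin n → S := fun j => if h : j = i then x - b * g else -c ⟨j, h⟩
    have ha : a i * f + ∑ j ∈ univ.erase i, a j * y j = 0 := by
      have h2 : ∑ j ∈ univ.erase i, a j * y j = -k := by
        rw [← hc, ← sum_neg_distrib, Finset.sum_subtype (p := fun j => j ≠ i) (univ.erase i) (by simp)]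
        refine sum_congr rfl fun j _ => ?_
        simp [a, j.2]
      rw [h2]; simp only [a, dif_pos]
      linear_combination -hkw
    have h3 := indep_coeff hy hi a ha
    simp only [a, dif_pos] at h3
    rw [hY] at h3
    refine (Submodule.Quotient.mk_eq_zero A).2 ?_
    have hle : C ≤ A := sup_le le_sup_left
      ((Ideal.span_singleton_le_iff_mem _).2 (Ideal.mul_mem_left _ _ (Ideal.mem_sup_right (Ideal.mem_span_singleton_self g))))
    have := add_mem (hle h3) (Ideal.mul_mem_left A b (Ideal.mem_sup_right (Ideal.mem_span_singleton_self g)))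
    simpa using this
  have hπ : Function.Surjective π := Submodule.factor_surjective hCB
  have hex : Function.Exact φ π := by
    intro z
    obtain ⟨z, rfl⟩ := Submodule.mkQ_surjective _ z
    constructor
    · intro hz
      have hz' : z ∈ B := (Submodule.Quotient.mk_eq_zero B).1 hz
      obtain ⟨k, hk, w, hw, rfl⟩ := Submodule.mem_sup.1 hz'
      obtain ⟨b, rfl⟩ := Ideal.mem_span_singleton'.1 hw
      refine ⟨Submodule.Quotient.mk b, (Submodule.Quotient.eq C).2 ?_⟩
      show f * b - (k + b * f) ∈ C
      rw [show f * b - (k + b * f) = -k by ring]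
      exact Ideal.mem_sup_left (neg_mem hk)
    · rintro ⟨w, hw⟩
      obtain ⟨w, rfl⟩ := Submodule.mkQ_surjective _ w
      rw [← hw]
      exact (Submodule.Quotient.mk_eq_zero B).2
        (Ideal.mul_mem_right _ _ (Ideal.mem_sup_right (Ideal.mem_span_singleton_self f)))
  exact (Module.length_eq_add_of_exact φ π hφ hπ hex).ge

variable [IsLocalRing S] (x : Fin n → S) (hx : ∀ i, x i ∈ maximalIdeal S)
include hx

theorem prod_le_length : ∀ (N : ℕ) (e : Fin n → ℕ), ∑ j, e j ≤ N → (∀ j, 1 ≤ e j) →
    Indep (fun j => x j ^ e j) →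
    ((∏ j, e j : ℕ) : ℕ∞) ≤ Module.length S (S ⧸ Ideal.span (Set.range fun j => x j ^ e j)) := by
  intro N
  induction N with
  | zero =>
    intro e hN he _
    rcases n with - | m
    · haveI : Nontrivial (S ⧸ Ideal.span (Set.range fun j => x j ^ e j)) := by
        rw [Ideal.Quotient.nontrivial_iff]
        simp
      simpa [Order.one_le_iff_pos] using Module.length_pos (R := S)
        (M := S ⧸ Ideal.span (Set.range fun j => x j ^ e j))
    · have := he 0
      have := single_le_sum (f := e) (fun j _ => Nat.zero_le _) (mem_univ 0)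
      omega
  | succ N ih =>
    intro e hN he hy
    by_cases h1 : ∀ j, e j = 1
    · have hle : Ideal.span (Set.range fun j => x j ^ e j) ≤ maximalIdeal S := Ideal.span_le.2 (by
        rintro _ ⟨j, rfl⟩
        simpa [h1 j] using hx j)
      haveI : Nontrivial (S ⧸ Ideal.span (Set.range fun j => x j ^ e j)) :=
        Ideal.Quotient.nontrivial_iff.2 (ne_top_of_le_ne_top (maximalIdeal.isMaximal S).ne_top hle)
      rw [prod_eq_one fun j _ => h1 j, Nat.cast_one]
      exact Order.one_le_iff_pos.2 Module.length_pos
    push Not at h1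
    obtain ⟨i, hi⟩ := h1
    have h2 : 2 ≤ e i := by have := he i; omega
    have hyi : (fun j => x j ^ e j) i = x i ^ 1 * x i ^ (e i - 1) := by
      show x i ^ e i = _
      rw [← pow_add]; congr 1; omega
    have hyi' : (fun j => x j ^ e j) i = x i ^ (e i - 1) * x i ^ 1 := by rw [hyi, mul_comm]
    have hupd : ∀ k, Function.update (fun j => x j ^ e j) i (x i ^ k) =
        fun j => x j ^ Function.update e i k j := by
      intro k; funext j
      by_cases hj : j = i
      · subst hj; simp
      · simp [hj]
    have hs : ∀ k, k < e i → ∑ j, Function.update e i k j ≤ N := by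
      intro k hk
      rw [sum_update_of_mem (mem_univ i), sdiff_singleton_eq_erase]
      have h3 : e i + ∑ j ∈ univ.erase i, e j = ∑ j, e j := add_sum_erase univ e (mem_univ i)
      omega
    have hp : ∀ k, ∏ j, Function.update e i k j = k * ∏ j ∈ univ.erase i, e j := fun k => by
      rw [prod_update_of_mem (mem_univ i), sdiff_singleton_eq_erase]
    have hpos : ∀ k, 1 ≤ k → ∀ j, 1 ≤ Function.update e i k j := fun k hk j => by
      by_cases hj : j = i
      · subst hj; simpa using hk
      · simpa [hj] using he j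
    have hA := ih _ (hs (e i - 1) (by omega)) (hpos _ (by omega)) (hupd _ ▸ indep_update hy hyi')
    have hB := ih _ (hs 1 (by omega)) (hpos 1 le_rfl) (hupd _ ▸ indep_update hy hyi)
    have h := length_split hy hyi
    rw [hupd, hupd] at h
    refine le_trans ?_ ((add_le_add hA hB).trans h)
    rw [hp, hp, ← Nat.cast_add, ← mul_prod_erase _ _ (mem_univ i), ← add_mul,
      Nat.sub_add_cancel (he i)]

end Lech

theorem indep_of_flat {R S : Type u} [CommRing R] [IsLocalRing R] [CommRing S] (φ : R →+* S)
    (hφ : φ.Flat) {n : ℕ} (x : Fin n → R) (hx : Ideal.span (Set.range x) = maximalIdeal R)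
    (hmin : ∀ r : Fin n → R, ∑ i, r i * x i = 0 → ∀ i, r i ∈ maximalIdeal R) :
    Indep (fun i => φ (x i)) := by
  letI := φ.toAlgebra
  haveI : Module.Flat R S := hφ
  intro a ha i
  have hrel : ∑ j, x j • a j = 0 := by
    rw [← ha]; exact sum_congr rfl fun j _ => by rw [Algebra.smul_def, mul_comm]; rfl
  obtain ⟨m, r, d, hd, hr⟩ := Module.Flat.isTrivialRelation_of_sum_smul_eq_zero (f := x) (x := a) hrel
  rw [hd i]
  refine Ideal.sum_mem _ fun j _ => ?_
  rw [Algebra.smul_def]
  refine Ideal.mul_mem_right _ _ ?_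
  have h1 : r i j ∈ maximalIdeal R :=
    hmin (fun k => r k j) (by rw [← hr j]; exact sum_congr rfl fun k _ => mul_comm _ _) i
  rw [← hx] at h1
  have := Ideal.mem_map_of_mem φ h1
  rw [Ideal.map_span, ← Set.range_comp] at this
  exact this

theorem exists_min_gens (R : Type u) [CommRing R] [IsLocalRing R] [IsNoetherianRing R] :
    ∃ (n : ℕ) (x : Fin n → R), Ideal.span (Set.range x) = maximalIdeal R ∧
      ∀ r : Fin n → R, ∑ i, r i * x i = 0 → ∀ i, r i ∈ maximalIdeal R := by
  classical
  have hex : ∃ n, ∃ x : Fin n → R, Ideal.span (Set.range x) = maximalIdeal R :=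
    Submodule.fg_iff_exists_fin_generating_family.1 (IsNoetherian.noetherian _)
  obtain ⟨x, hx⟩ := Nat.find_spec hex
  refine ⟨_, x, hx, fun r hr i => ?_⟩
  by_contra hu
  rw [mem_maximalIdeal, mem_nonunits_iff, not_not] at hu
  obtain ⟨m, hm⟩ : ∃ m, Nat.find hex = m + 1 := ⟨Nat.find hex - 1, by have := i.2; omega⟩
  refine Nat.find_min hex (show m < Nat.find hex by omega)
    ⟨fun j => x ((Fin.cast hm i).succAbove j |>.cast hm.symm), ?_⟩
  refine le_antisymm ((Ideal.span_mono (Set.range_comp_subset_range _ x)).trans hx.le) ?_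
  refine hx.symm.le.trans (Ideal.span_le.2 ?_)
  rintro _ ⟨k, rfl⟩
  have hmem : ∀ k, k ≠ i → x k ∈ Ideal.span (Set.range fun j => x ((Fin.cast hm i).succAbove j |>.cast hm.symm)) := by
    intro k hk
    obtain ⟨j, hj⟩ := Fin.exists_succAbove_eq (x := Fin.cast hm k) (y := Fin.cast hm i) (by simpa using hk)
    refine Ideal.subset_span ⟨j, ?_⟩
    show x _ = x k
    rw [hj]; rfl
  by_cases hk : k = i
  · subst hk
    rw [← add_sum_erase _ _ (mem_univ k)] at hr
    obtain ⟨v, hv⟩ := hu.exists_left_inv
    rw [show x k = (-v) * ∑ j ∈ univ.erase k, r j * x j by linear_combination v * hr - x k * hv]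
    exact Ideal.mul_mem_left _ _ (Ideal.sum_mem _ fun j hj => Ideal.mul_mem_left _ _ (hmem j (ne_of_mem_erase hj)))
  · exact hmem k hk

theorem isRegularLocalRing_of_flat (p : ℕ) [Fact p.Prime] (R : Type u) [CommRing R] [IsLocalRing R]
    [IsNoetherianRing R] [CharP R p] (h : (frobenius R p).Flat) : IsRegularLocalRing R := by
  haveI : ExpChar R p := ExpChar.prime Fact.out
  obtain ⟨d, hd⟩ : ∃ d : ℕ, ringKrullDim R = d := by
    obtain ⟨P, -, hdeg⟩ := HilbSam.main (A := R) (M := R)
    exact ⟨P.natDegree, by rw [← Module.supportDim_self_eq_ringKrullDim, ← hdeg]⟩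
  obtain ⟨n, x, hx, hmin⟩ := exists_min_gens R
  have hit : ∀ e, (iterateFrobenius R p e).Flat := fun e => by
    induction e with
    | zero => rw [iterateFrobenius_zero]; exact RingHom.Flat.id R
    | succ e ih => rw [iterateFrobenius_add, iterateFrobenius_one]; exact RingHom.Flat.comp h ih
  obtain ⟨K, hK⟩ := HKLib.len_le_growth p (maximalIdeal R) (N := 1) (by rw [pow_one]) R d
    (by rw [Module.supportDim_self_eq_ringKrullDim, hd])
  have hnd : n ≤ d := by
    by_contra hlt
    push Not at hlt
    have hp1 : (1 : ℝ) < p := by exact_mod_cast (Fact.out : p.Prime).one_lt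
    obtain ⟨e, he⟩ := pow_unbounded_of_one_lt K hp1
    have hbq : HKLib.bq p (maximalIdeal R) e = Ideal.span (Set.range fun i => x i ^ p ^ e) := by
      rw [HKLib.bq, ← hx, Ideal.map_span, ← Set.range_comp]
      simp only [Function.comp_def, iterateFrobenius_def]
    have hlow : ((∏ _i : Fin n, p ^ e : ℕ) : ℕ∞) ≤
        Module.length R (R ⧸ Ideal.span (Set.range fun i => x i ^ p ^ e)) := by
      refine prod_le_length x (fun i => hx ▸ Ideal.subset_span ⟨i, rfl⟩) _ (fun _ => p ^ e) le_rfl
        (fun _ => Nat.one_le_pow _ _ (Fact.out : p.Prime).pos) ?_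
      have := indep_of_flat _ (hit e) x hx hmin
      simpa only [iterateFrobenius_def] using this
    have hfin : Module.length R (R ⧸ HKLib.bq p (maximalIdeal R) e) ≠ ⊤ := by
      have h0 := HKLib.length_ne_top p (maximalIdeal R) (N := 1) (by rw [pow_one]) R e
      rwa [show (HKLib.bq p (maximalIdeal R) e • ⊤ : Submodule R R) = HKLib.bq p (maximalIdeal R) e from
        Ideal.mul_top _] at h0
    have h3 : (p ^ e) ^ n ≤ HKLib.len p (maximalIdeal R) R e := by
      rw [HKLib.len_self, ← ENat.coe_le_coe, ENat.natCast_toNat hfin, hbq]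
      simpa using hlow
    have h4 : ((p : ℝ) ^ e) ^ n ≤ K * ((p : ℝ) ^ d) ^ e := by
      refine le_trans ?_ (hK e)
      exact_mod_cast h3
    have h5 : ((p : ℝ) ^ d) ^ e * (p : ℝ) ^ e ≤ ((p : ℝ) ^ e) ^ n := by
      rw [← pow_mul, ← pow_mul, ← pow_add]
      exact pow_le_pow_right₀ hp1.le (by nlinarith [Nat.mul_le_mul_left e hlt])
    have h6 : 0 < ((p : ℝ) ^ d) ^ e := by positivity
    nlinarith
  refine IsRegularLocalRing.of_spanFinrank_maximalIdeal_le _ ?_
  rw [hd, Nat.cast_le, ← hx]
  refine (Submodule.spanFinrank_span_le_ncard_of_finite (Set.finite_range x)).trans (le_trans ?_ hnd)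
  rw [← Set.image_univ]
  exact (Set.ncard_image_le).trans (by simp)

theorem flat_of_rsop_map {R S : Type u} [CommRing R] [IsRegularLocalRing R] [CommRing S] [IsLocalRing S]
    [IsNoetherianRing S] (φ : R →+* S) [IsLocalHom φ] (d : ℕ) (hd : ringKrullDim R = d) (rs : List R)
    (hlen : rs.length = d) (hreg : RingTheory.Sequence.IsWeaklyRegular R rs)
    (hspan : Ideal.ofList rs = maximalIdeal R)
    (hS : RingTheory.Sequence.IsWeaklyRegular S (rs.map φ)) : φ.Flat := by
  letI := φ.toAlgebra
  haveI : IsLocalHom (algebraMap R S) := inferInstanceAs (IsLocalHom φ)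
  exact SerreReg.flat_of_regular_rsop d R hd rs hlen hreg hspan S
    ((RingTheory.Sequence.isWeaklyRegular_map_algebraMap_iff (S := S) (M := S) rs).1 hS)

theorem flat_of_isRegularLocalRing (p : ℕ) [Fact p.Prime] (R : Type u) [CommRing R] [IsRegularLocalRing R]
    [CharP R p] : (frobenius R p).Flat := by
  haveI : ExpChar R p := ExpChar.prime Fact.out
  haveI : IsLocalHom (frobenius R p) := ⟨fun a ha => by
    rw [frobenius_def] at ha; exact (isUnit_pow_iff (Fact.out : p.Prime).ne_zero).1 ha⟩
  obtain ⟨d, hd⟩ := SerreReg.exists_dim_nat R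
  obtain ⟨rs, hlen, hreg, hspan⟩ := SerreReg.exists_regular_rsop d R hd
  refine flat_of_rsop_map _ d hd rs hlen hreg hspan ?_
  have h := RegPow.isWeaklyRegular_pow (rs.map fun r => (r, p)) R (by
    intro q hq
    obtain ⟨r, -, rfl⟩ := List.mem_map.1 hq
    exact (Fact.out : p.Prime).one_le) (by simpa [List.map_map, Function.comp_def] using hreg)
  simpa only [List.map_map, Function.comp_def, show (⇑(frobenius R p) : R → R) = (fun x => x ^ p) from funext (frobenius_def p)] using h

theorem isRegularRing_iff_flat (p : ℕ) [Fact p.Prime] (R : Type u) [CommRing R] [IsNoetherianRing R]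
    [CharP R p] : IsRegularRing R ↔ (frobenius R p).Flat := by
  haveI : ExpChar R p := ExpChar.prime Fact.out
  have hcomap : ∀ P : Ideal R, P.IsPrime → P = P.comap (frobenius R p) := fun P hP => by
    ext r
    rw [Ideal.mem_comap, frobenius_def]
    exact ⟨fun h => Ideal.pow_mem_of_mem _ h _ (Fact.out : p.Prime).pos, hP.mem_of_pow_mem _⟩
  have hchar : ∀ (P : Ideal R) [P.IsPrime], CharP (Localization.AtPrime P) p := fun P _ =>
    (CharP.charP_iff_prime_eq_zero (Fact.out : p.Prime)).mpr (by
      rw [← map_natCast (algebraMap R (Localization.AtPrime P)), CharP.cast_eq_zero R p, map_zero])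
  have hloc : ∀ (P : Ideal R) [P.IsPrime], haveI := hchar P
      Localization.localRingHom P P (frobenius R p) (hcomap P ‹_›) = frobenius (Localization.AtPrime P) p := by
    intro P _
    haveI := hchar P
    exact Localization.localRingHom_unique _ _ _ _ fun r => (RingHom.map_frobenius (algebraMap R (Localization.AtPrime P)) p r).symm
  constructor
  · intro h
    refine RingHom.Flat.ofLocalizationPrime (frobenius R p) fun P hP => ?_
    suffices key : ∀ (Q : Ideal R) [Q.IsPrime] (hQ : Q = P.comap (frobenius R p)), Q = P →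
        (Localization.localRingHom Q P (frobenius R p) hQ).Flat from key _ rfl (hcomap P hP).symm
    intro Q _ hQ hQP
    subst hQP
    haveI := hchar Q
    rw [show Localization.localRingHom Q Q (frobenius R p) hQ = _ from hloc Q]
    exact flat_of_isRegularLocalRing p _
  · intro h
    rw [isRegularRing_iff]
    intro P _
    haveI := hchar P
    have := h.localRingHom P P (hcomap P ‹_›)
    rw [hloc P] at this
    exact isRegularLocalRing_of_flat p _ this

end Groth.Agent.Kunz
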